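import Cfsg.Agent.Lib.Sporadic.ConwayZero.Trace
import Cfsg.Agent.S5378

/-!
# The elements of the automorphism group of the lattice with central square

Up to conjugation and sign there are three of them outside the centre; each commutes with two elements whose
commutator is minus one.  Involutions with the same trace are conjugate.
-/

set_option autoImplicit false
set_option linter.style.haveILetI false

namespace CfsgLib.Sporadic.ConwayZero

open Cfsg Finset CfsgLib.ThreeTrans.Leech CfsgLib.Sporadic CfsgLib.Sporadic.Lattice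
open CfsgLib.Sporadic.Conway CfsgLib.Sporadic.Conway.TwoInv
open CfsgLib.Sporadic.Conway.OneInv (allMask allMask_code neg_eq_fl fl_inj center_cases neg_mem_center)
open scoped commutatorElement

/-- A dodecad. -/
def dMask : ℕ := 8245261
/-- The flips and the permutation of the element of order four. -/
def eMask : ℕ := 16265373
def piPerm : ℕ := 230224921688956172400902821646977449
/-- The witnesses. -/
def tF : ℕ := 13797105
def tS : ℕ := 99475699393655964513521545461810190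
def dF : ℕ := 9198654
def dS : ℕ := 336794026917819757842114651434466732
def jF : ℕ := 13797105
def jS : ℕ := 888840643990938577398185819964054829
def negS : ℕ := 801861480395272100209347105955975754

theorem data_ok :
    (inCode dMask = true ∧ inCode eMask = true ∧ inCode tF = true ∧ inCode dF = true ∧ inCode jF = true) ∧
    (isAut piPerm = true ∧ isAut tS = true ∧ isAut dS = true ∧ isAut jS = true ∧ isAut negS = true) ∧
    (mimg piPerm eMask ^^^ eMask = allMask ∧ pmul piPerm piPerm = pone ∧ inCode (mimg piPerm eMask) = true) ∧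
    (mimg tS ocMask = ocMask ∧ mimg dS dMask = dMask ∧ mimg jS eMask = eMask ∧ mimg piPerm jF = jF) ∧
    (mimg tS tF ^^^ tF = allMask ∧ mimg dS dF ^^^ dF = allMask ∧ mimg jS jF ^^^ jF = allMask) ∧
    (inCode (mimg tS tF) = true ∧ inCode (mimg dS dF) = true ∧ inCode (mimg jS jF) = true) ∧
    (pmul piPerm jS = pmul jS piPerm ∧ isAut (pmul piPerm jS) = true ∧ isAut (pmul piPerm piPerm) = true) ∧
    (mimg negS dMask = allMask ^^^ dMask) := by
  decide +kernel

theorem wt_ok : wt dMask = 12 ∧ wt ocMask = 16 := by decide +kernel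

theorem finite_co0' : Finite ↥Co0 := Nat.finite_of_card_ne_zero (by rw [card_Co0]; norm_num)

theorem neg_comm (g : ↥Co0) : g * negElt = negElt * g := Subgroup.mem_center_iff.1 neg_mem_center g

theorem neg_sq : negElt * negElt = 1 :=
  TwoInv.ext_smul fun v => by rw [mul_smul, negElt_smul, negElt_smul, one_smul, neg_neg]

theorem neg_inv : negElt⁻¹ = negElt := inv_eq_of_mul_eq_one_left neg_sq

theorem fl_sq {c : ℕ} (hc : inCode c = true) : fl c * fl c = 1 := by
  rw [fl_mul hc hc, Nat.xor_self, fl_zero]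

theorem fl_inv {c : ℕ} (hc : inCode c = true) : (fl c)⁻¹ = fl c := inv_eq_of_mul_eq_one_left (fl_sq hc)

theorem neg_mul_fl {c : ℕ} (hc : inCode c = true) : negElt * fl c = fl (allMask ^^^ c) := by
  rw [neg_eq_fl, fl_mul allMask_code hc]

theorem conj_fl {p c : ℕ} (hp : isAut p = true) (hc : inCode c = true) (h : inCode (mimg p c) = true) :
    pm p * fl c * (pm p)⁻¹ = fl (mimg p c) := by
  rw [pm_fl hp hc h, mul_inv_cancel_right]

theorem comm_pm_fl {p c : ℕ} (hp : isAut p = true) (hc : inCode c = true) (h : inCode (mimg p c) = true)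
    (e : mimg p c ^^^ c = allMask) : ⁅pm p, fl c⁆ = negElt := by
  rw [commutatorElement_def, conj_fl hp hc h, fl_inv hc, fl_mul h hc, e, neg_eq_fl]

/-- The element of order four. -/
noncomputable def jElt : ↥Co0 := fl eMask * pm piPerm

theorem jElt_sq : jElt * jElt = negElt := by
  obtain ⟨⟨-, he, -⟩, ⟨hp, -⟩, ⟨hx, hpp, hi⟩, -, -, -, ⟨-, -, hsq⟩, -⟩ := data_ok
  calc jElt * jElt = fl eMask * (pm piPerm * fl eMask) * pm piPerm := by simp only [jElt, mul_assoc]
    _ = fl eMask * fl (mimg piPerm eMask) * (pm piPerm * pm piPerm) := by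
      rw [pm_fl hp he hi]; simp only [mul_assoc]
    _ = negElt := by
      rw [fl_mul he hi, Nat.xor_comm, hx, pm_mul hp hp hsq, hpp, pm_one, mul_one, ← neg_eq_fl]

/-- Two elements of the centralizer with commutator minus one. -/
def HasWitness (a : ↥Co0) : Prop := ∃ b c : ↥Co0, Commute b a ∧ Commute c a ∧ ⁅b, c⁆ = negElt

theorem witness_fl {p f c : ℕ} (hp : isAut p = true) (hf : inCode f = true) (hc : inCode c = true)
    (hpc : mimg p c = c) (hi : inCode (mimg p f) = true) (e : mimg p f ^^^ f = allMask) :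
    HasWitness (fl c) := by
  refine ⟨pm p, fl f, ?_, ?_, comm_pm_fl hp hf hi e⟩
  · show pm p * fl c = fl c * pm p
    rw [pm_fl hp hc (by rw [hpc]; exact hc), hpc]
  · show fl f * fl c = fl c * fl f
    rw [fl_mul hf hc, fl_mul hc hf, Nat.xor_comm]

theorem witness_t : HasWitness tElt := by
  obtain ⟨⟨-, -, hf, -⟩, ⟨-, hp, -⟩, -, ⟨hc, -⟩, ⟨hx, -⟩, ⟨hi, -⟩, -⟩ := data_ok
  exact witness_fl hp hf ocMask_code hc hi hx

theorem witness_d : HasWitness (fl dMask) := by
  obtain ⟨⟨hd, -, -, hf, -⟩, ⟨-, -, hp, -⟩, -, ⟨-, hc, -⟩, ⟨-, hx, -⟩, ⟨-, hi, -⟩, -⟩ := data_ok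
  exact witness_fl hp hf hd hc hi hx

theorem witness_j : HasWitness jElt := by
  obtain ⟨⟨-, he, -, -, hf⟩, ⟨hπ, -, -, hp, -⟩, -, ⟨-, -, hce, hcf⟩, ⟨-, -, hx⟩, ⟨-, -, hi⟩, ⟨hm, hpm, -⟩, -⟩ :=
    data_ok
  refine ⟨pm jS, fl jF, ?_, ?_, comm_pm_fl hp hf hi hx⟩
  · show pm jS * (fl eMask * pm piPerm) = fl eMask * pm piPerm * pm jS
    rw [← mul_assoc, pm_fl hp he (by rw [hce]; exact he), hce, mul_assoc, mul_assoc,
      pm_mul hp hπ (by rw [← hm]; exact hpm), pm_mul hπ hp hpm, hm]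
  · show fl jF * (fl eMask * pm piPerm) = fl eMask * pm piPerm * fl jF
    rw [mul_assoc (fl eMask), pm_fl hπ hf (by rw [hcf]; exact hf), hcf, ← mul_assoc, ← mul_assoc,
      fl_mul hf he, fl_mul he hf, Nat.xor_comm]

theorem HasWitness.neg_mul {a : ↥Co0} (h : HasWitness a) : HasWitness (negElt * a) := by
  obtain ⟨b, c, hb, hc, e⟩ := h
  exact ⟨b, c, (show Commute b negElt from neg_comm b).mul_right hb,
    (show Commute c negElt from neg_comm c).mul_right hc, e⟩

theorem HasWitness.conj {a : ↥Co0} (h : HasWitness a) (g : ↥Co0) : HasWitness (g * a * g⁻¹) := by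
  obtain ⟨b, c, hb, hc, e⟩ := h
  refine ⟨g * b * g⁻¹, g * c * g⁻¹, hb.map (MulAut.conj g).toMonoidHom, hc.map (MulAut.conj g).toMonoidHom, ?_⟩
  have := map_commutatorElement (MulAut.conj g).toMonoidHom b c
  rw [e] at this
  change g * negElt * g⁻¹ = ⁅g * b * g⁻¹, g * c * g⁻¹⁆ at this
  rw [show g * negElt * g⁻¹ = negElt by rw [neg_comm, mul_inv_cancel_right]] at this
  exact this.symm

theorem not_central_fl {c : ℕ} (hc : inCode c = true) (h0 : c ≠ 0) (h1 : c ≠ allMask) :
    fl c ≠ 1 ∧ fl c ≠ negElt :=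
  ⟨fun e => h0 (fl_inj hc (by decide +kernel) (e.trans fl_zero.symm)),
    fun e => h1 (fl_inj hc allMask_code (e.trans neg_eq_fl))⟩

theorem tr_t : tr tElt = -8 := by
  rw [tElt, tr_fl_wt ocMask_code, wt_ok.2]; norm_num

theorem tr_d : tr (fl dMask) = 0 := by
  rw [tr_fl_wt data_ok.1.1, wt_ok.1]; norm_num

theorem d_conj_neg : pm negS * fl dMask * (pm negS)⁻¹ = negElt * fl dMask := by
  obtain ⟨⟨hd, -⟩, ⟨-, -, -, -, hp⟩, -, -, -, -, -, hs⟩ := data_ok
  rw [neg_mul_fl hd, conj_fl hp hd (by rw [hs]; exact inCode_xor allMask_code hd), hs]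

/-- Classes of the quotient by the centre pull back up to sign. -/
theorem pull {a r : ↥Co0} (h : IsConj (QuotientGroup.mk a : Spor.Co1) (QuotientGroup.mk r)) :
    ∃ g : ↥Co0, g * a * g⁻¹ = r ∨ g * a * g⁻¹ = negElt * r := by
  obtain ⟨x, hx⟩ := isConj_iff.1 h
  obtain ⟨g, rfl⟩ := QuotientGroup.mk_surjective x
  rw [← QuotientGroup.mk_inv, ← QuotientGroup.mk_mul, ← QuotientGroup.mk_mul, eq_comm, QuotientGroup.eq] at hx
  refine ⟨g, (center_cases hx).imp (fun e => ?_) (fun e => ?_)⟩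
  · exact (inv_mul_eq_one.1 e).symm
  · rw [inv_mul_eq_iff_eq_mul] at e
    rw [e, neg_comm]

theorem classify {a : ↥Co0} (h2 : a * a = 1 ∨ a * a = negElt) (h1 : a ≠ 1) (hn : a ≠ negElt) :
    ∃ g r : ↥Co0, (r = tElt ∨ r = fl dMask ∨ r = jElt) ∧ (g * a * g⁻¹ = r ∨ g * a * g⁻¹ = negElt * r) := by
  classical
  haveI := finite_co0'
  haveI : Finite Spor.Co1 := inferInstanceAs (Finite (↥Co0 ⧸ Subgroup.center ↥Co0))
  obtain ⟨z, hz, Q, hQn, hF, hQ, hcard, ⟨e⟩, hnwc⟩ := OneInv.co1_large_extraspecial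
  haveI := hQn
  obtain ⟨A, B, C, -, -, -, -, -, -, hall⟩ := Cfsg.Agent.S5378.result z hz Q hF hQ hcard e hnwc
  have hord : ∀ x : ↥Co0, (x * x = 1 ∨ x * x = negElt) → x ≠ 1 → x ≠ negElt →
      orderOf (QuotientGroup.mk x : Spor.Co1) = 2 := by
    intro x hx hx1 hxn
    refine orderOf_eq_prime ?_ fun e1 => ?_
    · rw [pow_two, ← QuotientGroup.mk_mul, QuotientGroup.eq_one_iff]
      rcases hx with h | h <;> rw [h]
      exacts [one_mem _, neg_mem_center]
    · exact (center_cases ((QuotientGroup.eq_one_iff x).1 e1)).elim hx1 hxn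
  obtain ⟨hd, -⟩ := data_ok.1
  have ht' : tElt ≠ 1 ∧ tElt ≠ negElt := not_central_fl ocMask_code (by decide +kernel) (by decide +kernel)
  have hd' := not_central_fl hd (by decide +kernel) (by decide +kernel)
  have hj' : jElt ≠ 1 ∧ jElt ≠ negElt := by
    constructor <;> intro e1 <;> have := jElt_sq <;> rw [e1] at this
    · exact negElt_ne_one (by rw [← this, one_mul])
    · exact negElt_ne_one (this.symm.trans neg_sq)
  have key : ∀ r s : ↥Co0, (∀ g : ↥Co0, g * r * g⁻¹ ≠ s ∧ g * r * g⁻¹ ≠ negElt * s) →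
      ¬ IsConj (QuotientGroup.mk r : Spor.Co1) (QuotientGroup.mk s) := fun r s h hc => by
    obtain ⟨g, e1 | e1⟩ := pull hc
    exacts [(h g).1 e1, (h g).2 e1]
  have ntd : ¬ IsConj (QuotientGroup.mk tElt : Spor.Co1) (QuotientGroup.mk (fl dMask)) := key _ _ fun g => by
    constructor <;> intro e1 <;> have := congrArg tr e1 <;> rw [tr_conj, tr_t] at this
    · rw [tr_d] at this; norm_num at this
    · rw [tr_neg_mul, tr_d] at this; norm_num at this
  have sq : ∀ (g x s : ↥Co0), x * x = 1 → (g * x * g⁻¹ = s ∨ g * x * g⁻¹ = negElt * s) → s * s = 1 := by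
    intro g x s hx e1
    have hc : g * x * g⁻¹ * (g * x * g⁻¹) = 1 := by
      rw [show g * x * g⁻¹ * (g * x * g⁻¹) = g * (x * x) * g⁻¹ by group, hx]; group
    rcases e1 with e1 | e1 <;> rw [e1] at hc
    · exact hc
    · rwa [show negElt * s * (negElt * s) = negElt * (s * negElt) * s by group, neg_comm, ← mul_assoc, neg_sq,
        one_mul] at hc
  have hjne : ¬ jElt * jElt = 1 := by rw [jElt_sq]; exact negElt_ne_one
  have ntj : ¬ IsConj (QuotientGroup.mk tElt : Spor.Co1) (QuotientGroup.mk jElt) := key _ _ fun g =>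
    ⟨fun e1 => hjne (sq g _ _ (fl_sq ocMask_code) (Or.inl e1)), fun e1 => hjne (sq g _ _ (fl_sq ocMask_code) (Or.inr e1))⟩
  have ndj : ¬ IsConj (QuotientGroup.mk (fl dMask) : Spor.Co1) (QuotientGroup.mk jElt) := key _ _ fun g =>
    ⟨fun e1 => hjne (sq g _ _ (fl_sq hd) (Or.inl e1)), fun e1 => hjne (sq g _ _ (fl_sq hd) (Or.inr e1))⟩
  have ca := hall _ (hord a h2 h1 hn)
  have ct := hall _ (hord tElt (Or.inl (fl_sq ocMask_code)) ht'.1 ht'.2)
  have cd := hall _ (hord (fl dMask) (Or.inl (fl_sq hd)) hd'.1 hd'.2)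
  have cj := hall _ (hord jElt (Or.inr jElt_sq) hj'.1 hj'.2)
  have hthree : IsConj (QuotientGroup.mk a : Spor.Co1) (QuotientGroup.mk tElt) ∨
      IsConj (QuotientGroup.mk a : Spor.Co1) (QuotientGroup.mk (fl dMask)) ∨
      IsConj (QuotientGroup.mk a : Spor.Co1) (QuotientGroup.mk jElt) := by
    rcases ct with t1 | t1 | t1 <;> rcases cd with d1 | d1 | d1 <;>
      first
      | exact absurd (t1.trans d1.symm) ntd
      | (rcases cj with j1 | j1 | j1 <;>
          first
          | exact absurd (t1.trans j1.symm) ntj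
          | exact absurd (d1.trans j1.symm) ndj
          | (rcases ca with a1 | a1 | a1 <;>
              first
              | exact Or.inl (a1.trans t1.symm)
              | exact Or.inr (Or.inl (a1.trans d1.symm))
              | exact Or.inr (Or.inr (a1.trans j1.symm))))
  rcases hthree with h | h | h <;> obtain ⟨g, hg⟩ := pull h
  exacts [⟨g, _, Or.inl rfl, hg⟩, ⟨g, _, Or.inr (Or.inl rfl), hg⟩, ⟨g, _, Or.inr (Or.inr rfl), hg⟩]

theorem exists_witness {a : ↥Co0} (h2 : a * a = 1 ∨ a * a = negElt) (h1 : a ≠ 1) (hn : a ≠ negElt) :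
    HasWitness a := by
  obtain ⟨g, r, hr, hg⟩ := classify h2 h1 hn
  have hw : HasWitness r := by
    rcases hr with rfl | rfl | rfl
    exacts [witness_t, witness_d, witness_j]
  rw [show a = g⁻¹ * (g * a * g⁻¹) * g⁻¹⁻¹ by group]
  rcases hg with e | e <;> rw [e]
  exacts [hw.conj _, hw.neg_mul.conj _]

theorem invol_cases {a : ↥Co0} (h2 : a * a = 1) (h1 : a ≠ 1) (hn : a ≠ negElt) :
    ∃ g : ↥Co0, g * a * g⁻¹ = tElt ∨ g * a * g⁻¹ = negElt * tElt ∨ g * a * g⁻¹ = fl dMask := by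
  obtain ⟨g, r, hr, hg⟩ := classify (Or.inl h2) h1 hn
  rcases hr with rfl | rfl | rfl
  · exact ⟨g, hg.imp_right Or.inl⟩
  · rcases hg with e | e
    · exact ⟨g, Or.inr (Or.inr e)⟩
    · refine ⟨(pm negS)⁻¹ * g, Or.inr (Or.inr ?_)⟩
      calc (pm negS)⁻¹ * g * a * ((pm negS)⁻¹ * g)⁻¹ = (pm negS)⁻¹ * (g * a * g⁻¹) * pm negS := by group
        _ = fl dMask := by rw [e, ← d_conj_neg]; group
  · exfalso
    have hc : g * a * g⁻¹ * (g * a * g⁻¹) = 1 := by
      rw [show g * a * g⁻¹ * (g * a * g⁻¹) = g * (a * a) * g⁻¹ by group, h2]; group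
    rcases hg with e | e <;> rw [e] at hc
    · exact negElt_ne_one (jElt_sq.symm.trans hc)
    · rw [show negElt * jElt * (negElt * jElt) = negElt * (jElt * negElt) * jElt by group, neg_comm,
        ← mul_assoc, neg_sq, one_mul] at hc
      exact negElt_ne_one (jElt_sq.symm.trans hc)

theorem tr_cases {a : ↥Co0} (h2 : a * a = 1) (h1 : a ≠ 1) (hn : a ≠ negElt) :
    tr a = -8 ∨ tr a = 8 ∨ tr a = 0 := by
  obtain ⟨g, e | e | e⟩ := invol_cases h2 h1 hn <;> rw [← tr_conj a g, e]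
  · exact Or.inl tr_t
  · rw [tr_neg_mul, tr_t]; norm_num
  · exact Or.inr (Or.inr tr_d)

theorem conj_of_tr {a b : ↥Co0} (ha2 : a * a = 1) (ha1 : a ≠ 1) (han : a ≠ negElt) (hb2 : b * b = 1)
    (hb1 : b ≠ 1) (hbn : b ≠ negElt) (h : tr a = tr b) : ∃ g : ↥Co0, g * a * g⁻¹ = b := by
  obtain ⟨g, hg⟩ := invol_cases ha2 ha1 han
  obtain ⟨k, hk⟩ := invol_cases hb2 hb1 hbn
  have key : g * a * g⁻¹ = k * b * k⁻¹ := by
    have hh : tr (g * a * g⁻¹) = tr (k * b * k⁻¹) := by rw [tr_conj, tr_conj, h]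
    rcases hg with e | e | e <;> rcases hk with e' | e' | e' <;> rw [e, e'] <;>
      simp only [e, e', tr_t, tr_d, tr_neg_mul] at hh <;> norm_num at hh
  refine ⟨k⁻¹ * g, ?_⟩
  calc k⁻¹ * g * a * (k⁻¹ * g)⁻¹ = k⁻¹ * (g * a * g⁻¹) * k := by group
    _ = b := by rw [key]; group

end CfsgLib.Sporadic.ConwayZero
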