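import Cfsg.Agent.Lib.Sporadic.ConwayOneInvolution
import Cfsg.Agent.Lib.ThreeTrans.Co0Mod13

/-!
# The character of degree 24 of the automorphism group of the lattice

The rational matrices, the trace, and the fact that no subgroup of order 16 has all its nontrivial
elements of trace zero.
-/

set_option autoImplicit false
set_option linter.style.haveILetI false

namespace CfsgLib.Sporadic.ConwayZero

open Cfsg Finset Matrix CfsgLib.ThreeTrans.Leech CfsgLib.Sporadic CfsgLib.Sporadic.Lattice
open CfsgLib.Sporadic.Conway CfsgLib.Sporadic.Conway.TwoInv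

/-- The rational matrix. -/
noncomputable def rmat (g : ↥Co0) : Matrix GolayPt GolayPt ℚ :=
  Matrix.of fun k i => (((g • eightElt i : ↥leechLattice) : Vec) k : ℚ) / 8

theorem rmat_apply (g : ↥Co0) (v : ↥leechLattice) :
    rmat g *ᵥ (fun k => ((v : Vec) k : ℚ)) = fun k => (((g • v : ↥leechLattice) : Vec) k : ℚ) := by
  funext k
  have h : (8 : ℤ) * ((g • v : ↥leechLattice) : Vec) k =
      ∑ i, (v : Vec) i * ((g • eightElt i : ↥leechLattice) : Vec) k :=
    eight_apply g.2 v k
  have h' := congrArg (fun z : ℤ => (z : ℚ)) h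
  simp only [Int.cast_mul, Int.cast_sum, Int.cast_ofNat] at h'
  simp only [mulVec, dotProduct, rmat, of_apply]
  rw [show (((g • v : ↥leechLattice) : Vec) k : ℚ) =
    (∑ i, ((v : Vec) i : ℚ) * (((g • eightElt i : ↥leechLattice) : Vec) k : ℚ)) / 8 by rw [← h']; ring,
    Finset.sum_div]
  exact Finset.sum_congr rfl fun i _ => by ring

theorem rmat_one : rmat 1 = 1 := by
  ext k i
  simp only [rmat, of_apply, one_smul, eightElt, eight, one_apply]
  split_ifs <;> norm_num

theorem rmat_mul (g h : ↥Co0) : rmat (g * h) = rmat g * rmat h := by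
  ext k i
  have := congrFun (rmat_apply g (h • eightElt i)) k
  simp only [mulVec, dotProduct] at this
  simp only [mul_apply]
  rw [show rmat (g * h) k i = (((g • h • eightElt i : ↥leechLattice) : Vec) k : ℚ) / 8 by
    simp only [rmat, of_apply, mul_smul], ← this, Finset.sum_div]
  exact Finset.sum_congr rfl fun j _ => by simp only [rmat, of_apply]; ring

/-- The matrices as a homomorphism. -/
noncomputable def rmatHom : ↥Co0 →* Matrix GolayPt GolayPt ℚ where
  toFun := rmat
  map_one' := rmat_one
  map_mul' := rmat_mul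

/-- The trace. -/
noncomputable def tr (g : ↥Co0) : ℚ := (rmat g).trace

theorem tr_conj (g h : ↥Co0) : tr (h * g * h⁻¹) = tr g := by
  rw [tr, tr, rmat_mul, rmat_mul, Matrix.trace_mul_comm, ← Matrix.mul_assoc, ← rmat_mul, inv_mul_cancel,
    rmat_one, Matrix.one_mul]

theorem rmat_neg : rmat negElt = -1 := by
  ext k i
  simp only [rmat, of_apply, negElt_smul, Matrix.neg_apply, one_apply, eightElt, eight,
    NegMemClass.coe_neg, Pi.neg_apply]
  split_ifs <;> norm_num

theorem tr_neg_mul (g : ↥Co0) : tr (negElt * g) = -tr g := by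
  rw [tr, tr, rmat_mul, rmat_neg, Matrix.neg_mul, Matrix.one_mul, Matrix.trace_neg]

theorem tr_one : tr 1 = 24 := by
  rw [tr, rmat_one, Matrix.trace_one, show Fintype.card GolayPt = 24 from rfl]
  norm_num

theorem tr_fl {c : ℕ} (hc : inCode c = true) :
    tr (fl c) = ∑ i : GolayPt, (if c.testBit (ix i) then (-1 : ℚ) else 1) := by
  show ∑ i : GolayPt, rmat (fl c) i i = _
  refine Finset.sum_congr rfl fun i _ => ?_
  simp only [rmat, of_apply, fl_apply hc, flipVec, mem_setOfMask, eightElt, eight]
  cases c.testBit (ix i) <;> simp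

/-- The number of coordinates of a mask. -/
def wt (c : ℕ) : ℕ := ((Finset.univ : Finset GolayPt).filter fun i => c.testBit (ix i) = true).card

theorem tr_fl_wt {c : ℕ} (hc : inCode c = true) : tr (fl c) = 24 - 2 * (wt c : ℚ) := by
  rw [tr_fl hc, Finset.sum_ite, Finset.sum_const, Finset.sum_const, wt]
  have h := Finset.card_filter_add_card_filter_not (s := (Finset.univ : Finset GolayPt))
    (fun i : GolayPt => c.testBit (ix i) = true)
  have h24 : (Finset.univ : Finset GolayPt).card = 24 := rfl
  rw [h24] at h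
  have h' := congrArg (fun n : ℕ => (n : ℚ)) h
  push_cast at h'
  simp only [nsmul_eq_mul, mul_neg, mul_one]
  linarith

/-- No subgroup of order sixteen has all its nontrivial elements of trace zero. -/
theorem no_trace_zero (U : Subgroup ↥Co0) (hU : Nat.card U = 16)
    (h : ∀ u ∈ U, u ≠ 1 → tr u = 0) : False := by
  classical
  haveI : Finite U := Nat.finite_of_card_ne_zero (by rw [hU]; norm_num)
  haveI : Fintype U := Fintype.ofFinite U
  have hc : Fintype.card U = 16 := by rw [← Nat.card_eq_fintype_card, hU]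
  set P : Matrix GolayPt GolayPt ℚ := (1 / 16 : ℚ) • ∑ u : U, rmat (u : ↥Co0) with hP
  have hPP : P * P = P := by
    have hsum : ∀ u : U, rmat (u : ↥Co0) * (∑ v : U, rmat (v : ↥Co0)) = ∑ v : U, rmat (v : ↥Co0) := by
      intro u
      rw [Finset.mul_sum]
      exact Fintype.sum_equiv (Equiv.mulLeft u) _ _ fun v => by
        rw [Equiv.coe_mulLeft, Subgroup.coe_mul, rmat_mul]
    rw [hP, Matrix.smul_mul, Matrix.mul_smul, smul_smul, Finset.sum_mul, Finset.sum_congr rfl fun u _ => hsum u,
      Finset.sum_const, Finset.card_univ, hc, ← Nat.cast_smul_eq_nsmul ℚ, smul_smul]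
    norm_num
  have htr : P.trace = 3 / 2 := by
    rw [hP, Matrix.trace_smul, Matrix.trace_sum, Finset.sum_eq_single (1 : U)]
    · show (1 / 16 : ℚ) • tr ((1 : U) : ↥Co0) = 3 / 2
      rw [OneMemClass.coe_one, tr_one]
      norm_num
    · exact fun u _ hu => h u u.2 fun e => hu (Subtype.ext e)
    · exact fun hn => absurd (Finset.mem_univ _) hn
  have hidem : Matrix.toLin' P ∘ₗ Matrix.toLin' P = Matrix.toLin' P := by rw [← Matrix.toLin'_mul, hPP]
  have hproj : LinearMap.IsProj (LinearMap.range (Matrix.toLin' P)) (Matrix.toLin' P) := by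
    refine ⟨fun x => LinearMap.mem_range_self _ x, ?_⟩
    rintro x ⟨y, rfl⟩
    exact LinearMap.congr_fun hidem y
  have ht := hproj.trace
  rw [Matrix.trace_toLin'_eq, htr] at ht
  have h3 : ((2 * Module.finrank ℚ (LinearMap.range (Matrix.toLin' P)) : ℕ) : ℚ) = ((3 : ℕ) : ℚ) := by
    push_cast
    linarith
  have := Nat.cast_inj.mp h3
  omega

end CfsgLib.Sporadic.ConwayZero
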